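import Mathlib.LinearAlgebra.FreeModule.PID
import Mathlib.LinearAlgebra.StdBasis
import Mathlib.RingTheory.PrincipalIdealDomain
import Mathlib.Algebra.EuclideanDomain.Int
import Mathlib.Data.ZMod.Basic
import Mathlib.Algebra.Group.Subgroup.Pointwise
import Mathlib.Data.Nat.Prime.Basic

/-!
# Subgroups of `(Z/N)^ι` and spans of the images of `σ - 1`

* `exists_generators`: every subgroup of `ι → ZMod N` is generated by a family indexed by `ι`.
* `exists_adapted_generators`: the same with generators compatible with a partition of `ι`.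
* `exists_of_cyclic`, `exists_of_invol`, `exists_of_signs`: the three abstract forms of the
  statement "the elements `σ a - a` lie in the span of eigenvectors `δ i`, `i ∈ ι`".
-/

set_option autoImplicit false

namespace Groth.Agent.Vancyc.H614.SpanAlg

/-- Every subgroup of `ι → ZMod N` is generated by a family indexed by `ι`. -/
theorem exists_generators {ι : Type*} [Finite ι] (N : ℕ) (S : AddSubgroup (ι → ZMod N)) :
    ∃ y : ι → (ι → ZMod N), AddSubgroup.closure (Set.range y) = S := by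
  classical
  let π : (ι → ℤ) →+ (ι → ZMod N) :=
    { toFun := fun z i => (z i : ZMod N)
      map_zero' := by ext i; simp
      map_add' := by intro a b; ext i; simp }
  have hπ : Function.Surjective π := by
    intro y
    refine ⟨fun i => (ZMod.intCast_surjective (y i)).choose, ?_⟩
    ext i
    exact (ZMod.intCast_surjective (y i)).choose_spec
  let M : Submodule ℤ (ι → ℤ) := AddSubgroup.toIntSubmodule (S.comap π)
  obtain ⟨n, snf⟩ := M.smithNormalForm (Pi.basisFun ℤ ι)
  let y : ι → (ι → ZMod N) := fun i =>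
    if h : ∃ j, snf.f j = i then π (snf.bN h.choose : ι → ℤ) else 0
  have hy : ∀ j, y (snf.f j) = π (snf.bN j : ι → ℤ) := by
    intro j
    have h : ∃ j', snf.f j' = snf.f j := ⟨j, rfl⟩
    have h2 : h.choose = j := snf.f.injective h.choose_spec
    simp only [y]
    rw [dif_pos h, h2]
  refine ⟨y, le_antisymm ?_ ?_⟩
  · rw [AddSubgroup.closure_le]
    rintro _ ⟨i, rfl⟩
    by_cases h : ∃ j, snf.f j = i
    · obtain ⟨j, rfl⟩ := h
      rw [hy]
      exact (snf.bN j).2
    · simp only [y]
      rw [dif_neg h]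
      exact S.zero_mem
  · intro s hs
    obtain ⟨z, rfl⟩ := hπ s
    have hz : z ∈ M := hs
    have h1 := snf.bN.sum_repr ⟨z, hz⟩
    have h2 : z = ∑ j, snf.bN.repr ⟨z, hz⟩ j • (snf.bN j : ι → ℤ) := by
      have h3 := congrArg (fun w : M => (w : ι → ℤ)) h1
      rw [AddSubmonoidClass.coe_finsetSum] at h3
      exact h3.symm
    rw [h2, map_sum]
    refine AddSubgroup.sum_mem _ fun j _ => ?_
    rw [map_zsmul]
    refine AddSubgroup.zsmul_mem _ ?_ _
    rw [← hy]
    exact AddSubgroup.subset_closure ⟨_, rfl⟩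

/-- If `φ : H → (Z/N)^ι` and `v : H → H'` kills `ker φ` then the image of `v` is generated by a
family indexed by `ι`. -/
theorem exists_generators_of_ker {ι H H' : Type*} [Finite ι] [AddCommGroup H] [AddCommGroup H']
    (N : ℕ) (φ : H →+ (ι → ZMod N)) :
    ∃ b : ι → H, ∀ (v : H →+ H'), (∀ a, φ a = 0 → v a = 0) → ∀ a,
      v a ∈ AddSubgroup.closure (Set.range fun i => v (b i)) := by
  classical
  obtain ⟨y, hy⟩ := exists_generators N φ.range
  have hyr : ∀ i, ∃ b, φ b = y i := fun i => by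
    have : y i ∈ φ.range := by
      rw [← hy]
      exact AddSubgroup.subset_closure ⟨i, rfl⟩
    exact this
  choose b hb using hyr
  refine ⟨b, fun v hv a => ?_⟩
  have h1 : φ a ∈ AddSubgroup.closure (Set.range y) := by
    rw [hy]
    exact ⟨a, rfl⟩
  have h2 : Set.range y = φ '' (Set.range b) := by
    ext z
    constructor
    · rintro ⟨i, rfl⟩
      exact ⟨b i, ⟨i, rfl⟩, hb i⟩
    · rintro ⟨_, ⟨i, rfl⟩, rfl⟩
      exact ⟨i, (hb i).symm⟩
  rw [h2, ← AddMonoidHom.map_closure] at h1
  obtain ⟨c, hc, hca⟩ := h1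
  have h3 : v (a - c) = 0 := hv _ (by rw [map_sub, hca, sub_self])
  have h4 : v a = v c := by
    rw [map_sub, sub_eq_zero] at h3
    exact h3
  rw [h4]
  have h5 : (Set.range fun i => v (b i)) = v '' (Set.range b) := by
    rw [← Set.range_comp]
    rfl
  rw [h5, ← AddMonoidHom.map_closure]
  exact ⟨c, hc, rfl⟩

/-- Generators of a subgroup of `(Z/N)^ι` adapted to a partition of `ι`. -/
theorem exists_adapted_generators {ι κ : Type*} [Finite ι] (N : ℕ) (cls : ι → κ)
    (S : AddSubgroup (ι → ZMod N))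
    (hS : ∀ z ∈ S, ∀ k : κ, ∃ w ∈ S, (∀ j, cls j = k → w j = z j) ∧ ∀ j, cls j ≠ k → w j = 0) :
    ∃ y : ι → (ι → ZMod N), (∀ i, y i ∈ S) ∧ (∀ i j, cls j ≠ cls i → y i j = 0) ∧
      S ≤ AddSubgroup.closure (Set.range y) := by
  classical
  have := Fintype.ofFinite ι
  -- restriction to a class and extension by zero
  let res : ∀ k : κ, (ι → ZMod N) →+ ({i // cls i = k} → ZMod N) := fun k =>
    { toFun := fun z i => z i
      map_zero' := rfl
      map_add' := fun _ _ => rfl }
  let ext : ∀ k : κ, ({i // cls i = k} → ZMod N) →+ (ι → ZMod N) := fun k =>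
    { toFun := fun z j => if h : cls j = k then z ⟨j, h⟩ else 0
      map_zero' := by
        ext j
        by_cases h : cls j = k <;> simp [h]
      map_add' := by
        intro a b
        ext j
        by_cases h : cls j = k <;> simp [h] }
  have hext1 : ∀ k z j (h : cls j = k), ext k z j = z ⟨j, h⟩ := fun k z j h => by
    simp only [ext, AddMonoidHom.coe_mk, ZeroHom.coe_mk]
    rw [dif_pos h]
  have hext0 : ∀ k z j, cls j ≠ k → ext k z j = 0 := fun k z j h => by
    simp only [ext, AddMonoidHom.coe_mk, ZeroHom.coe_mk]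
    rw [dif_neg h]
  have hpr : ∀ k, ∀ z ∈ S, ext k (res k z) ∈ S := by
    intro k z hz
    obtain ⟨w, hw, h1, h2⟩ := hS z hz k
    have : ext k (res k z) = w := by
      funext j
      by_cases h : cls j = k
      · rw [hext1 _ _ _ h, h1 j h]
        rfl
      · rw [hext0 _ _ _ h, h2 j h]
    rw [this]
    exact hw
  choose g hg using fun k : κ => exists_generators N (S.map (res k))
  have hgS : ∀ k i, ext k (g k i) ∈ S := by
    intro k i
    have h1 : g k i ∈ S.map (res k) := by
      rw [← hg k]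
      exact AddSubgroup.subset_closure ⟨i, rfl⟩
    obtain ⟨z, hz, hzi⟩ := h1
    rw [← hzi]
    exact hpr k z hz
  refine ⟨fun i => ext (cls i) (g (cls i) ⟨i, rfl⟩), fun i => hgS _ _, fun i j h => hext0 _ _ _ h, ?_⟩
  have hcl : ∀ k, ∀ z ∈ S, ext k (res k z) ∈ AddSubgroup.closure
      (Set.range fun i => ext (cls i) (g (cls i) ⟨i, rfl⟩)) := by
    intro k z hz
    have h1 : res k z ∈ AddSubgroup.closure (Set.range (g k)) := by
      rw [hg k]
      exact ⟨z, hz, rfl⟩
    have h2 : ext k (res k z) ∈ (AddSubgroup.closure (Set.range (g k))).map (ext k) := ⟨_, h1, rfl⟩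
    rw [AddMonoidHom.map_closure] at h2
    refine AddSubgroup.closure_mono ?_ h2
    rintro _ ⟨_, ⟨⟨i, rfl⟩, rfl⟩, rfl⟩
    exact ⟨i, rfl⟩
  intro z hz
  have hsum : z = ∑ k ∈ Finset.univ.image cls, ext k (res k z) := by
    funext j
    rw [Finset.sum_apply, Finset.sum_eq_single (cls j)]
    · rw [hext1 _ _ _ rfl]
      rfl
    · intro k _ hk
      exact hext0 _ _ _ (fun h => hk h.symm)
    · intro h
      exact absurd (Finset.mem_image_of_mem _ (Finset.mem_univ j)) h
  rw [hsum]
  exact AddSubgroup.sum_mem _ fun k _ => hcl k z hz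

section Main

variable {ι H G : Type*} [Finite ι] [AddCommGroup H] {N : ℕ}

/-- First form: `σ - 1` is an integral multiple of `σ₀ - 1` for all `σ` and `(σ-1)(τ-1) = 0`. -/
theorem exists_of_cyclic (T : G → H →+ H) (φ : H →+ (ι → ZMod N))
    (hφ : ∀ a, φ a = 0 → ∀ s, T s a = a)
    (huu : ∀ s t a, T s (T t a - a) = T t a - a)
    (s₀ : G) (hs₀ : ∀ s, ∃ m : ℤ, ∀ a, T s a - a = m • (T s₀ a - a)) :
    ∃ δ : ι → H, (∀ s i, T s (δ i) = δ i) ∧
      ∀ s a, T s a - a ∈ AddSubgroup.closure (Set.range δ) := by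
  obtain ⟨b, hb⟩ := exists_generators_of_ker (H' := H) N φ
  refine ⟨fun i => T s₀ (b i) - b i, fun s i => huu _ _ _, fun s a => ?_⟩
  obtain ⟨m, hm⟩ := hs₀ s
  rw [hm]
  refine AddSubgroup.zsmul_mem _ ?_ _
  exact hb (T s₀ - AddMonoidHom.id H) (fun a ha => by simp [hφ a ha s₀]) a

/-- Second form: all nontrivial `T σ` coincide, and are involutions. -/
theorem exists_of_invol (T : G → H →+ H) (φ : H →+ (ι → ZMod N))
    (hφ : ∀ a, φ a = 0 → ∀ s, T s a = a)
    (hTT : ∀ s a, T s (T s a) = a)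
    (heq : ∀ s t, T s ≠ AddMonoidHom.id H → T t ≠ AddMonoidHom.id H → T s = T t) :
    ∃ δ : ι → H, (∀ s i, T s (δ i) = δ i ∨ T s (δ i) = -δ i) ∧
      ∀ s a, T s a - a ∈ AddSubgroup.closure (Set.range δ) := by
  classical
  by_cases hall : ∀ s, T s = AddMonoidHom.id H
  · refine ⟨fun _ => 0, fun s i => Or.inl (map_zero _), fun s a => ?_⟩
    rw [hall s, AddMonoidHom.id_apply, sub_self]
    exact AddSubgroup.zero_mem _
  · push Not at hall
    obtain ⟨s₀, hs₀⟩ := hall
    obtain ⟨b, hb⟩ := exists_generators_of_ker (H' := H) N φ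
    refine ⟨fun i => T s₀ (b i) - b i, fun s i => ?_, fun s a => ?_⟩
    · by_cases h : T s = AddMonoidHom.id H
      · left
        rw [h]
        rfl
      · right
        rw [heq s s₀ h hs₀, map_sub, hTT, neg_sub]
    · by_cases h : T s = AddMonoidHom.id H
      · rw [h, AddMonoidHom.id_apply, sub_self]
        exact AddSubgroup.zero_mem _
      · rw [heq s s₀ h hs₀]
        exact hb (T s₀ - AddMonoidHom.id H) (fun a ha => by simp [hφ a ha s₀]) a

/-- Third form: involutions acting through signs on `(Z/N)^ι`, `N` odd. -/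
theorem exists_of_signs (hN : Odd N) (hNH : ∀ a : H, N • a = 0) (T : G → H →+ H)
    (e : H →+ (ι → ZMod N))
    (he : ∀ a, e a = 0 → ∀ s, T s a = a)
    (hTT : ∀ s a, T s (T s a) = a) (hcomm : ∀ s t a, T s (T t a) = T t (T s a))
    (ε : ι → G → ℤ) (hε : ∀ i s, ε i s = 1 ∨ ε i s = -1)
    (heq : ∀ s a i, e (T s a) i = ε i s • e a i) :
    ∃ δ : ι → H, (∀ s i, T s (δ i) = ε i s • δ i) ∧
      ∀ s a, T s a - a ∈ AddSubgroup.closure (Set.range δ) := by
  classical
  have := Fintype.ofFinite ι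
  -- halving
  obtain ⟨c, hc⟩ := hN
  have hcN : ∀ a : H, ((c : ℤ) + 1) • (2 : ℤ) • a = a := by
    intro a
    have h1 : ((N : ℤ)) • a = 0 := by rw [natCast_zsmul]; exact hNH a
    have h2 : ((c : ℤ) + 1) * 2 = (N : ℤ) + 1 := by rw [hc]; push_cast; ring
    rw [← mul_zsmul, h2, add_zsmul, h1, one_zsmul, zero_add]
  have hcN' : ∀ a : ZMod N, ((c : ℤ) + 1) • (2 : ℤ) • a = a := by
    intro a
    have h1 : ((N : ℤ)) • a = 0 := by rw [natCast_zsmul, nsmul_eq_mul]; simp
    have h2 : ((c : ℤ) + 1) * 2 = (N : ℤ) + 1 := by rw [hc]; push_cast; ring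
    rw [← mul_zsmul, h2, add_zsmul, h1, one_zsmul, zero_add]
  have h2inj : ∀ a : H, (2 : ℤ) • a = 0 → a = 0 := by
    intro a ha
    rw [← hcN a, ha, zsmul_zero]
  have hsq : ∀ i s, ε i s * ε i s = 1 := by
    intro i s
    rcases hε i s with h | h <;> rw [h] <;> norm_num
  -- projections onto classes of signs
  have hproj : ∀ (k : ι) (F : Finset ι), (∀ j ∈ F, ε j ≠ ε k) → ∀ a : H, ∃ b : H,
      (∀ i, ε i = ε k → e b i = e a i) ∧ (∀ i ∈ F, e b i = 0) := by
    intro k F
    induction F using Finset.induction_on with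
    | empty =>
      intro _ a
      exact ⟨a, fun _ _ => rfl, fun i hi => absurd hi (Finset.notMem_empty i)⟩
    | insert j F hj ih =>
      intro hF a
      obtain ⟨b, hb1, hb2⟩ := ih (fun i hi => hF i (Finset.mem_insert_of_mem hi)) a
      have hjk : ε j ≠ ε k := hF j (Finset.mem_insert_self _ _)
      obtain ⟨s, hs⟩ := Function.ne_iff.1 hjk
      have hneg : ε j s = -ε k s := by
        rcases hε j s with h1 | h1 <;> rcases hε k s with h2 | h2 <;> rw [h1, h2] at hs ⊢ <;>
          first | exact absurd rfl hs | norm_num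
      have hval : ∀ i, e (((c : ℤ) + 1) • (b + ε k s • T s b)) i =
          ((c : ℤ) + 1) • (e b i + (ε k s * ε i s) • e b i) := by
        intro i
        rw [map_zsmul, map_add, map_zsmul, Pi.smul_apply, Pi.add_apply, Pi.smul_apply, heq,
          mul_zsmul]
      refine ⟨((c : ℤ) + 1) • (b + ε k s • T s b), fun i hi => ?_, fun i hi => ?_⟩
      · rw [hval, hi, hsq, one_zsmul, ← two_zsmul, hcN', hb1 i hi]
      · rw [hval]
        rcases Finset.mem_insert.1 hi with rfl | hi
        · rw [hneg, mul_neg, hsq, neg_zsmul, one_zsmul, add_neg_cancel, zsmul_zero]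
        · rw [hb2 i hi, zsmul_zero, add_zero, zsmul_zero]
  -- adapted generators of the range
  obtain ⟨y, hyS, hy0, hyc⟩ := exists_adapted_generators N ε e.range (by
    rintro _ ⟨a, rfl⟩ k
    by_cases hk : ∃ k', ε k' = k
    · obtain ⟨k', rfl⟩ := hk
      obtain ⟨b, hb1, hb2⟩ := hproj k' (Finset.univ.filter fun j => ε j ≠ ε k')
        (fun j hj => (Finset.mem_filter.1 hj).2) a
      exact ⟨e b, ⟨b, rfl⟩, fun j hj => hb1 j hj,
        fun j hj => hb2 j (Finset.mem_filter.2 ⟨Finset.mem_univ _, hj⟩)⟩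
    · exact ⟨0, AddSubgroup.zero_mem _, fun j hj => absurd ⟨j, hj⟩ hk, fun j _ => rfl⟩)
  choose b hb using hyS
  -- elements with the same image as `b i` are eigenvectors modulo the kernel
  have hker : ∀ s i d, e d = e (b i) → e (T s d - ε i s • d) = 0 := by
    intro s i d hd
    funext j
    rw [map_sub, Pi.sub_apply, heq, map_zsmul, Pi.smul_apply, Pi.zero_apply, hd]
    by_cases h : ε j = ε i
    · rw [h, sub_self]
    · rw [hb i, hy0 i j h, zsmul_zero, zsmul_zero, sub_self]
  -- corrected lifts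
  have hcorr : ∀ i, ∃ d : H, e d = e (b i) ∧ ∀ s, T s d = ε i s • d := by
    intro i
    by_cases h1 : ∀ s, ε i s = 1
    · refine ⟨b i, rfl, fun s => ?_⟩
      have h2 := he _ (hker s i _ rfl) s
      rw [h1 s, one_zsmul] at h2 ⊢
      rw [map_sub, hTT] at h2
      have h3 : (2 : ℤ) • (T s (b i) - b i) = 0 := by
        rw [two_zsmul]
        nth_rewrite 1 [← h2]
        abel
      exact sub_eq_zero.1 (h2inj _ h3)
    · push Not at h1
      obtain ⟨t, ht⟩ := h1
      have ht' : ε i t = -1 := (hε i t).resolve_left ht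
      obtain ⟨d, hd⟩ : ∃ d, d = ((c : ℤ) + 1) • (b i - T t (b i)) := ⟨_, rfl⟩
      have hed : e d = e (b i) := by
        have h3 := hker t i _ rfl
        rw [ht', map_sub, sub_eq_zero, neg_zsmul, one_zsmul, map_neg] at h3
        rw [hd, map_zsmul, map_sub, h3, sub_neg_eq_add, ← two_zsmul]
        funext j
        rw [Pi.smul_apply, Pi.smul_apply, hcN']
      have htd : T t d = -d := by
        rw [hd, map_zsmul, map_sub, hTT, ← zsmul_neg, neg_sub]
      refine ⟨d, hed, fun s => ?_⟩
      have hfix := he _ (hker s i d hed) t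
      have h10 : T t (T s d - ε i s • d) = -(T s d - ε i s • d) := by
        rw [map_sub, map_zsmul, hcomm t s, htd, map_neg, zsmul_neg]
        abel
      rw [hfix] at h10
      have h11 : (2 : ℤ) • (T s d - ε i s • d) = 0 := by
        rw [two_zsmul]
        nth_rewrite 1 [h10]
        rw [neg_add_cancel]
      exact sub_eq_zero.1 (h2inj _ h11)
  choose δ hδe hδ using hcorr
  refine ⟨δ, fun s i => hδ i s, fun s a => ?_⟩
  have h1 : e a ∈ AddSubgroup.closure (Set.range y) := hyc ⟨a, rfl⟩
  have h2 : Set.range y = e '' (Set.range δ) := by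
    ext z
    constructor
    · rintro ⟨i, rfl⟩
      exact ⟨δ i, ⟨i, rfl⟩, (hδe i).trans (hb i)⟩
    · rintro ⟨_, ⟨i, rfl⟩, rfl⟩
      exact ⟨i, ((hδe i).trans (hb i)).symm⟩
  rw [h2, ← AddMonoidHom.map_closure] at h1
  obtain ⟨z, hz, hza⟩ := h1
  have h3 := he (a - z) (by rw [map_sub, hza, sub_self]) s
  have h4 : T s a - a = T s z - z := by
    rw [map_sub] at h3
    have h5 : T s a = a - z + T s z := by rw [← h3]; abel
    rw [h5]
    abel
  have h6 : AddSubgroup.closure (Set.range δ) ≤ (AddSubgroup.closure (Set.range δ)).comap (T s) := by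
    rw [AddSubgroup.closure_le]
    rintro _ ⟨i, rfl⟩
    change T s (δ i) ∈ AddSubgroup.closure (Set.range δ)
    rw [hδ i s]
    exact AddSubgroup.zsmul_mem _ (AddSubgroup.subset_closure (Set.mem_range_self i)) _
  rw [h4]
  exact AddSubgroup.sub_mem _ (h6 hz) hz

end Main

end Groth.Agent.Vancyc.H614.SpanAlg
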