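import Groth.Agent.Vancyc.H614.SpanAlg
import Groth.Agent.Vancyc.H684.Tame
import Groth.Agent.Vancyc.H680.GalGlue

/-!
# The images of `σ - 1` on `H^n` of the geometric generic fibre are spanned by eigenvectors

`R` a strictly henselian discrete valuation ring, `f : X ⟶ Spec R`, `H = H^q(X_Ω, F)`,
`φ : H → (Z/N)^ι` with kernel contained in the image of `H^q(X, F)`.

* `span_odd`: if `(σ - 1)(τ - 1) = 0` for all `σ, τ` then the `σ a - a` are spanned by fixed classes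
  `δ i`, `i ∈ ι`.
* `span_even_two`: if all `σ` act as involutions, trivially if they fix the square roots of a
  uniformiser, then the `σ a - a` are spanned by classes `δ i` with `σ (δ i) = ± δ i`.
* `span_signs`: the same if `N` is odd, all `σ` act as commuting involutions and `φ` is equivariant
  for signs `ε i σ` on the factors of `(Z/N)^ι`.
-/

set_option autoImplicit false

open CategoryTheory CategoryTheory.Limits AlgebraicGeometry Opposite
open CategoryTheory.Abelian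

universe u

namespace Groth.Agent.Vancyc.H614.SpanGal

open Groth.Agent.Vancyc.H684 Groth.Agent.Vancyc.H680

section Cyclic

variable (R K Ω : Type u) [CommRing R] [IsDomain R] [IsDiscreteValuationRing R]
  (hR : EtCoh.IsStrictlyHenselianLocalRing R) [Field K] [Algebra R K] [IsFractionRing R K]
  [Field Ω] [Algebra K Ω] [IsSepClosure K Ω] [Algebra R Ω] [IsScalarTower R K Ω]

include hR in
/-- The action of `Gal(Ω/K)` on an `N`-th root of a nonzero element of `K` is through a cyclic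
group. -/
theorem exists_generator (N : ℕ) (hN : IsUnit (N : R)) (t : K) (ht : t ≠ 0) (r : Ω)
    (hr : r ^ N = algebraMap K Ω t) :
    ∃ s₀ : Ω ≃ₐ[K] Ω, ∀ s : Ω ≃ₐ[K] Ω, ∃ m : ℤ, ((s₀ ^ m)⁻¹ * s) r = r := by
  classical
  have hN0 : N ≠ 0 := by
    rintro rfl
    simp at hN
  have hr0 : r ≠ 0 := by
    rintro rfl
    rw [zero_pow hN0] at hr
    exact ht ((map_eq_zero (algebraMap K Ω)).1 hr.symm)
  have h1 : ∀ s : Ω ≃ₐ[K] Ω, ∃ z : K, algebraMap K Ω z = s r / r := by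
    intro s
    apply Sga4h.TameFieldAlg.mem_of_pow_eq_one R K hR N hN
    rw [div_pow, ← map_pow, hr, AlgEquiv.commutes, div_self]
    exact fun h => ht ((map_eq_zero (algebraMap K Ω)).1 h)
  choose z hz using h1
  have hz' : ∀ s, algebraMap K Ω (z s) * r = s r := fun s => by rw [hz, div_mul_cancel₀ _ hr0]
  have hzN : ∀ s, z s ^ N = 1 := by
    intro s
    apply (algebraMap K Ω).injective
    rw [map_pow, hz, div_pow, ← map_pow, hr, AlgEquiv.commutes, map_one, div_self]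
    exact fun h => ht ((map_eq_zero (algebraMap K Ω)).1 h)
  have hz0 : ∀ s, z s ≠ 0 := by
    intro s h
    have := hzN s
    rw [h, zero_pow hN0] at this
    exact zero_ne_one this
  let χ : (Ω ≃ₐ[K] Ω) →* Kˣ := MonoidHom.mk' (fun s => Units.mk0 (z s) (hz0 s)) (by
    intro s s'
    ext
    rw [Units.val_mul, Units.val_mk0, Units.val_mk0, Units.val_mk0]
    apply (algebraMap K Ω).injective
    apply mul_right_cancel₀ hr0
    rw [hz', map_mul, AlgEquiv.mul_apply, ← hz' s', map_mul, AlgEquiv.commutes, ← hz' s]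
    ring)
  have hfin : Finite χ.range := by
    have : NeZero N := ⟨hN0⟩
    have hle : χ.range ≤ rootsOfUnity N K := by
      rintro _ ⟨s, rfl⟩
      rw [mem_rootsOfUnity]
      ext
      rw [Units.val_pow_eq_pow_val]
      exact hzN s
    exact Finite.of_injective (Subgroup.inclusion hle) (Subgroup.inclusion_injective hle)
  have hcyc : IsCyclic χ.range := inferInstance
  obtain ⟨⟨_, s₀, rfl⟩, hg⟩ := hcyc.exists_generator
  refine ⟨s₀, fun s => ?_⟩
  obtain ⟨m, hm⟩ := Subgroup.mem_zpowers_iff.1 (hg ⟨χ s, s, rfl⟩)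
  refine ⟨m, ?_⟩
  have h2 : χ ((s₀ ^ m)⁻¹ * s) = 1 := by
    have h3 : χ s₀ ^ m = χ s := congrArg Subtype.val hm
    rw [map_mul, map_inv, map_zpow, h3, inv_mul_cancel]
  rw [← hz']
  have h4 : z ((s₀ ^ m)⁻¹ * s) = 1 := congrArg Units.val h2
  rw [h4, map_one, one_mul]

end Cyclic

section Main

variable {R K Ω : Type u} [CommRing R] [IsDomain R] [IsDiscreteValuationRing R]
  (hR : EtCoh.IsStrictlyHenselianLocalRing R) [Field K] [Algebra R K] [IsFractionRing R K]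
  [Field Ω] [Algebra K Ω] [IsSepClosure K Ω] [Algebra R Ω] [IsScalarTower R K Ω]
  {X : Scheme.{u}} (f : X ⟶ Spec (CommRingCat.of R)) (F : EtCoh.Ab X) (N : ℕ) (q : ℕ)

include hR in
/-- Odd case. -/
theorem span_odd [QuasiCompact f] [QuasiSeparated f] (hN : IsUnit (N : R))
    (hF : EtCoh.KilledBy N F) [PreservesFiniteLimits (EtCoh.pull (VanCyc.jA R f Ω))]
    {ι : Type*} [Finite ι]
    (φ : EtCoh.H (VanCyc.fib R f Ω) ((EtCoh.pull (VanCyc.jA R f Ω)).obj F) q →+ (ι → ZMod N))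
    (hφ : φ.ker ≤ (EtCore.Hpull (VanCyc.jA R f Ω) F q).range)
    (h : ∀ (σ τ : Ω ≃ₐ[K] Ω) [PreservesFiniteLimits (EtCoh.pull (VanCyc.galGeom f σ))]
      [PreservesFiniteLimits (EtCoh.pull (VanCyc.galGeom f τ))],
      (VanCyc.galH f σ F q - AddMonoidHom.id _).comp
        (VanCyc.galH f τ F q - AddMonoidHom.id _) = 0) :
    ∃ δ : ι → EtCoh.H (VanCyc.fib R f Ω) ((EtCoh.pull (VanCyc.jA R f Ω)).obj F) q,
      (∀ (σ : Ω ≃ₐ[K] Ω) [PreservesFiniteLimits (EtCoh.pull (VanCyc.galGeom f σ))] (i : ι),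
        VanCyc.galH f σ F q (δ i) = δ i) ∧
      ∀ (σ : Ω ≃ₐ[K] Ω) [PreservesFiniteLimits (EtCoh.pull (VanCyc.galGeom f σ))]
        (a : EtCoh.H (VanCyc.fib R f Ω) ((EtCoh.pull (VanCyc.jA R f Ω)).obj F) q),
        VanCyc.galH f σ F q a - a ∈ AddSubgroup.closure (Set.range δ) := by
  classical
  have h' : ∀ (s t : Ω ≃ₐ[K] Ω)
      (ξ : EtCoh.H (VanCyc.fib R f Ω) ((EtCoh.pull (VanCyc.jA R f Ω)).obj F) q),
      VanCyc.galH f s F q (VanCyc.galH f t F q ξ - ξ) = VanCyc.galH f t F q ξ - ξ := by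
    intro s t ξ
    have := DFunLike.congr_fun (h s t) ξ
    exact sub_eq_zero.1 this
  obtain ⟨t, ht⟩ := IsDiscreteValuationRing.exists_irreducible R
  have hN0 : N ≠ 0 := by
    rintro rfl
    simp at hN
  have hNK : ((N : ℕ) : K) ≠ 0 := by
    have := hN.map (algebraMap R K)
    rw [map_natCast] at this
    exact this.ne_zero
  have hNΩ : ((N : ℕ) : Ω) ≠ 0 := by
    rw [← map_natCast (algebraMap K Ω)]
    exact fun h0 => hNK ((map_eq_zero (algebraMap K Ω)).1 h0)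
  have ht0 : algebraMap R K t ≠ 0 := fun h0 =>
    ht.ne_zero ((map_eq_zero_iff _ (IsFractionRing.injective R K)).1 h0)
  have hsc : IsSepClosed Ω := IsSepClosure.sep_closed K
  obtain ⟨r, hr⟩ : ∃ r : Ω, r ^ N = algebraMap K Ω (algebraMap R K t) := by
    have : NeZero ((N : ℕ) : Ω) := ⟨hNΩ⟩
    exact IsSepClosed.exists_pow_nat_eq _ N
  obtain ⟨s₀, hs₀⟩ := exists_generator R K Ω hR N hN _ ht0 r hr
  have key := SpanAlg.exists_of_cyclic (N := N) (ι := ι)
    (T := fun s : Ω ≃ₐ[K] Ω => VanCyc.galH f s F q) φ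
    (fun a ha s => by
      obtain ⟨e, rfl⟩ := hφ ha
      exact GalGlue.galH_Hpull f s F q e)
    (fun s t a => h' s t a) s₀ (fun s => by
      obtain ⟨m, hm⟩ := hs₀ s
      refine ⟨m, fun a => ?_⟩
      let ψ : (Ω ≃ₐ[K] Ω) →* Multiplicative
          (EtCoh.H (VanCyc.fib R f Ω) ((EtCoh.pull (VanCyc.jA R f Ω)).obj F) q) :=
        MonoidHom.mk' (fun s => Multiplicative.ofAdd (VanCyc.galH f s F q a - a)) (by
          intro s t
          rw [← ofAdd_add, GalCont.galH_mul]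
          congr 1
          have h1 := h' s t a
          rw [map_sub] at h1
          rw [← sub_add_sub_cancel _ (VanCyc.galH f s F q a) a, h1, add_comm])
      have h2 : ψ ((s₀ ^ m)⁻¹ * s) = 1 := by
        have h3 := Tame.galH_eq_id R K Ω hR f F N hN hF q h t ht ((s₀ ^ m)⁻¹ * s) ⟨r, hr, hm⟩
        change Multiplicative.ofAdd (VanCyc.galH f ((s₀ ^ m)⁻¹ * s) F q a - a) = 1
        rw [h3, AddMonoidHom.id_apply, sub_self, ofAdd_zero]
      rw [map_mul, map_inv, map_zpow, inv_mul_eq_one] at h2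
      exact congrArg Multiplicative.toAdd h2.symm)
  obtain ⟨δ, h1, h2⟩ := key
  exact ⟨δ, fun σ _ i => h1 σ i, fun σ _ a => h2 σ a⟩

/-- Even case, `2` invertible. -/
theorem span_even_two [PreservesFiniteLimits (EtCoh.pull (VanCyc.jA R f Ω))]
    {ι : Type*} [Finite ι]
    (φ : EtCoh.H (VanCyc.fib R f Ω) ((EtCoh.pull (VanCyc.jA R f Ω)).obj F) q →+ (ι → ZMod N))
    (hφ : φ.ker ≤ (EtCore.Hpull (VanCyc.jA R f Ω) F q).range)
    (h : ∀ (σ : Ω ≃ₐ[K] Ω) [PreservesFiniteLimits (EtCoh.pull (VanCyc.galGeom f σ))],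
      (VanCyc.galH f σ F q).comp (VanCyc.galH f σ F q) = AddMonoidHom.id _)
    (t : R)
    (hq : ∀ (σ : Ω ≃ₐ[K] Ω) [PreservesFiniteLimits (EtCoh.pull (VanCyc.galGeom f σ))],
      VanCyc.quadChar (algebraMap R K t) σ = 1 → VanCyc.galH f σ F q = AddMonoidHom.id _) :
    ∃ δ : ι → EtCoh.H (VanCyc.fib R f Ω) ((EtCoh.pull (VanCyc.jA R f Ω)).obj F) q,
      (∀ (σ : Ω ≃ₐ[K] Ω) [PreservesFiniteLimits (EtCoh.pull (VanCyc.galGeom f σ))] (i : ι),
        VanCyc.galH f σ F q (δ i) = δ i ∨ VanCyc.galH f σ F q (δ i) = -δ i) ∧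
      ∀ (σ : Ω ≃ₐ[K] Ω) [PreservesFiniteLimits (EtCoh.pull (VanCyc.galGeom f σ))]
        (a : EtCoh.H (VanCyc.fib R f Ω) ((EtCoh.pull (VanCyc.jA R f Ω)).obj F) q),
        VanCyc.galH f σ F q a - a ∈ AddSubgroup.closure (Set.range δ) := by
  classical
  have hneg : ∀ (σ : Ω ≃ₐ[K] Ω), VanCyc.galH f σ F q ≠ AddMonoidHom.id _ →
      ∀ r : Ω, r * r = algebraMap K Ω (algebraMap R K t) → σ r = -r := by
    intro σ hσ r hr
    have h1 : ¬ ∀ r : Ω, r * r = algebraMap K Ω (algebraMap R K t) → σ r = r := by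
      intro h2
      exact hσ (hq σ (by simp only [VanCyc.quadChar]; rw [if_pos h2]))
    have h3 : ∀ r : Ω, r * r = algebraMap K Ω (algebraMap R K t) → σ r = r ∨ σ r = -r := by
      intro r hr
      have h4 : σ r * σ r = r * r := by rw [← map_mul, hr, AlgEquiv.commutes]
      exact mul_self_eq_mul_self_iff.1 h4
    push Not at h1
    obtain ⟨r', hr', hne⟩ := h1
    have h5 := (h3 r' hr').resolve_left hne
    have h6 : r * r = r' * r' := hr.trans hr'.symm
    rcases mul_self_eq_mul_self_iff.1 h6 with rfl | rfl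
    · exact h5
    · rw [map_neg, h5]
  have key := SpanAlg.exists_of_invol (N := N) (ι := ι)
    (T := fun s : Ω ≃ₐ[K] Ω => VanCyc.galH f s F q) φ
    (fun a ha s => by
      obtain ⟨e, rfl⟩ := hφ ha
      exact GalGlue.galH_Hpull f s F q e)
    (fun s a => DFunLike.congr_fun (h s) a) (fun s s' hs hs' => by
      have h1 := hneg s hs
      have h2 := hneg s' hs'
      have h3 : VanCyc.galH f (s⁻¹ * s') F q = AddMonoidHom.id _ := by
        apply hq
        simp only [VanCyc.quadChar]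
        rw [if_pos]
        intro r hr
        rw [AlgEquiv.mul_apply, h2 r hr, map_neg]
        have h4 : s⁻¹ r = -r := by
          have h5 : s (-r) = r := by rw [map_neg, h1 r hr, neg_neg]
          nth_rewrite 1 [← h5]
          rw [← AlgEquiv.mul_apply, inv_mul_cancel, AlgEquiv.one_apply]
        rw [h4, neg_neg]
      ext a
      have h6 := GalCont.galH_mul f s (s⁻¹ * s') F q a
      rw [h3, AddMonoidHom.id_apply] at h6
      have h7 : s * (s⁻¹ * s') = s' := mul_inv_cancel_left s s'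
      have h8 : ∀ u : Ω ≃ₐ[K] Ω, u = s' → VanCyc.galH f u F q a = VanCyc.galH f s' F q a := by
        rintro _ rfl
        rfl
      rw [← h6]
      exact h8 _ h7)
  obtain ⟨δ, h1, h2⟩ := key
  exact ⟨δ, fun σ _ i => h1 σ i, fun σ _ a => h2 σ a⟩

/-- Signs, `N` odd. -/
theorem span_signs (hN : Odd N)
    (hF : EtCoh.KilledBy N F) [PreservesFiniteLimits (EtCoh.pull (VanCyc.jA R f Ω))]
    {ι : Type*} [Finite ι]
    (φ : EtCoh.H (VanCyc.fib R f Ω) ((EtCoh.pull (VanCyc.jA R f Ω)).obj F) q →+ (ι → ZMod N))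
    (hφ : φ.ker ≤ (EtCore.Hpull (VanCyc.jA R f Ω) F q).range)
    (h : ∀ (σ : Ω ≃ₐ[K] Ω) [PreservesFiniteLimits (EtCoh.pull (VanCyc.galGeom f σ))],
      (VanCyc.galH f σ F q).comp (VanCyc.galH f σ F q) = AddMonoidHom.id _)
    (hc : ∀ (σ τ : Ω ≃ₐ[K] Ω) [PreservesFiniteLimits (EtCoh.pull (VanCyc.galGeom f σ))]
      [PreservesFiniteLimits (EtCoh.pull (VanCyc.galGeom f τ))],
      (VanCyc.galH f σ F q).comp (VanCyc.galH f τ F q) =
        (VanCyc.galH f τ F q).comp (VanCyc.galH f σ F q))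
    (ε : ι → (Ω ≃ₐ[K] Ω) → ℤ) (hε : ∀ i s, ε i s = 1 ∨ ε i s = -1)
    (heq : ∀ (σ : Ω ≃ₐ[K] Ω) [PreservesFiniteLimits (EtCoh.pull (VanCyc.galGeom f σ))]
      (a : EtCoh.H (VanCyc.fib R f Ω) ((EtCoh.pull (VanCyc.jA R f Ω)).obj F) q) (i : ι),
      φ (VanCyc.galH f σ F q a) i = ε i σ • φ a i) :
    ∃ δ : ι → EtCoh.H (VanCyc.fib R f Ω) ((EtCoh.pull (VanCyc.jA R f Ω)).obj F) q,
      (∀ (σ : Ω ≃ₐ[K] Ω) [PreservesFiniteLimits (EtCoh.pull (VanCyc.galGeom f σ))] (i : ι),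
        VanCyc.galH f σ F q (δ i) = ε i σ • δ i) ∧
      ∀ (σ : Ω ≃ₐ[K] Ω) [PreservesFiniteLimits (EtCoh.pull (VanCyc.galGeom f σ))]
        (a : EtCoh.H (VanCyc.fib R f Ω) ((EtCoh.pull (VanCyc.jA R f Ω)).obj F) q),
        VanCyc.galH f σ F q a - a ∈ AddSubgroup.closure (Set.range δ) := by
  classical
  have key := SpanAlg.exists_of_signs (N := N) (ι := ι) hN
    (fun a => Tame.nsmul_ext_eq_zero (Tame.nsmul_id_pull (VanCyc.jA R f Ω)
      (Tame.nsmul_id_of_killedBy hF)) a)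
    (T := fun s : Ω ≃ₐ[K] Ω => VanCyc.galH f s F q) φ
    (fun a ha s => by
      obtain ⟨e, rfl⟩ := hφ ha
      exact GalGlue.galH_Hpull f s F q e)
    (fun s a => DFunLike.congr_fun (h s) a) (fun s t a => DFunLike.congr_fun (hc s t) a)
    ε hε (fun s a i => heq s a i)
  obtain ⟨δ, h1, h2⟩ := key
  exact ⟨δ, fun σ _ i => h1 σ i, fun σ _ a => h2 σ a⟩

end Main

end Groth.Agent.Vancyc.H614.SpanGal
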